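import Mathlib

/-! # S3930, piece QF: quadratic maps between elementary abelian 2-groups -/

set_option autoImplicit false
set_option linter.all false

namespace Cfsg.Agent.H9.PyrQF

section
variable {V E : Type*} [AddCommGroup V] [AddCommGroup E]

/-- the polar form -/
def bb (q : V → E) (u w : V) : E := q (u + w) + q u + q w

theorem bb_comm (q : V → E) (u w : V) : bb q u w = bb q w u := by
  unfold bb
  rw [add_comm u w]; abel

theorem bb_add {q : V → E} (hE : ∀ e : E, e + e = 0)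
    (hb : ∀ u v w : V, q (u + v + w) + q u + q v + q w = q (u + v) + q (u + w) + q (v + w)) (u v w : V) :
    bb q (u + v) w = bb q u w + bb q v w := by
  unfold bb
  calc q (u + v + w) + q (u + v) + q w
      = (q (u + v + w) + q u + q v + q w) + q (u + v) + (q u + q v) - (q u + q u) - (q v + q v) := by abel
    _ = (q (u + v) + q (u + w) + q (v + w)) + q (u + v) + (q u + q v) := by
        rw [hb, hE, hE, sub_zero, sub_zero]
    _ = (q (u + v) + q (u + v)) + (q (u + w) + q u + q w) + (q (v + w) + q v + q w) - (q w + q w) := by abel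
    _ = (q (u + w) + q u + q w) + (q (v + w) + q v + q w) := by rw [hE, hE, sub_zero, zero_add]

theorem q_add {q : V → E} (hE : ∀ e : E, e + e = 0) (u w : V) : q (u + w) = q u + q w + bb q u w := by
  unfold bb
  calc q (u + w) = q (u + w) + (q u + q u) + (q w + q w) := by rw [hE, hE, add_zero, add_zero]
    _ = q u + q w + (q (u + w) + q u + q w) := by abel

end

theorem sum_zero {V : Type*} [AddCommGroup V] [Fintype V] (f : V → ℂ) (hf : ∀ u v, f (u + v) = f u * f v)
    (h0 : ∃ u, f u ≠ 1) : ∑ v, f v = 0 := by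
  obtain ⟨u, hu⟩ := h0
  have h1 : ∑ v, f (u + v) = ∑ v, f v := Equiv.sum_comp (Equiv.addLeft u) f
  have h2 : ∑ v, f (u + v) = f u * ∑ v, f v := by
    rw [Finset.mul_sum]; exact Finset.sum_congr rfl fun v _ => hf u v
  have h3 : (f u - 1) * ∑ v, f v = 0 := by rw [sub_mul, one_mul, ← h2, h1, sub_self]
  rcases mul_eq_zero.1 h3 with h | h
  · exact absurd (sub_eq_zero.1 h) hu
  · exact h

theorem gauss {V E : Type*} [AddCommGroup V] [AddCommGroup E] [Fintype V] (hV : ∀ v : V, v + v = 0)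
    (hE : ∀ e : E, e + e = 0) (q : V → E)
    (hb : ∀ u v w : V, q (u + v + w) + q u + q v + q w = q (u + v) + q (u + w) + q (v + w)) (hq0 : q 0 = 0)
    (χ : E → ℂ) (hχ : ∀ e f, χ (e + f) = χ e * χ f) (hχ0 : χ 0 = 1) :
    ∃ R : AddSubgroup V, (∀ w, w ∈ R ↔ ∀ u, χ (bb q u w) = 1) ∧
      ((∑ v, χ (q v)) ^ 2 = (Fintype.card V : ℂ) * (Nat.card R : ℂ) ∨ (∑ v, χ (q v)) ^ 2 = 0) := by
  classical
  let R : AddSubgroup V :=
    { carrier := {w | ∀ u, χ (bb q u w) = 1}
      zero_mem' := by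
        intro u
        have : bb q u 0 = 0 := by unfold bb; rw [add_zero, hE, hq0, add_zero]
        rw [this, hχ0]
      add_mem' := by
        intro w w' hw hw' u
        rw [bb_comm, bb_add hE hb, hχ, bb_comm, hw u, bb_comm, hw' u, one_mul]
      neg_mem' := by
        intro w hw u
        have h1 : -w = w := neg_eq_of_add_eq_zero_left (hV w)
        rw [h1]
        exact hw u }
  have hR : ∀ w, w ∈ R ↔ ∀ u, χ (bb q u w) = 1 := fun w => Iff.rfl
  refine ⟨R, hR, ?_⟩
  have h1 : (∑ v, χ (q v)) ^ 2 = ∑ w, χ (q w) * ∑ u, χ (bb q u w) := by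
    rw [pow_two, Finset.sum_mul_sum]
    have h2 : ∀ u : V, ∑ v, χ (q u) * χ (q v) = ∑ w, χ (q u) * χ (q (u + w)) := fun u =>
      (Equiv.sum_comp (Equiv.addLeft u) (fun v => χ (q u) * χ (q v))).symm
    rw [Finset.sum_congr rfl (fun u _ => h2 u), Finset.sum_comm]
    refine Finset.sum_congr rfl fun w _ => ?_
    rw [Finset.mul_sum]
    refine Finset.sum_congr rfl fun u _ => ?_
    rw [← hχ, ← hχ]
    congr 1
    rw [q_add (q := q) hE u w]
    calc q u + (q u + q w + bb q u w) = (q u + q u) + (q w + bb q u w) := by abel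
      _ = q w + bb q u w := by rw [hE, zero_add]
  have h2 : ∀ w, ∑ u, χ (bb q u w) = if w ∈ R then (Fintype.card V : ℂ) else 0 := by
    intro w
    split_ifs with h
    · rw [Finset.sum_congr rfl (fun u _ => (hR w).1 h u), Finset.sum_const, Finset.card_univ, nsmul_eq_mul,
        mul_one]
    · refine sum_zero _ (fun u v => by rw [bb_add hE hb, hχ]) ?_
      by_contra hcon
      push Not at hcon
      exact h hcon
  have h3 : (∑ v, χ (q v)) ^ 2 = (Fintype.card V : ℂ) * ∑ w : R, χ (q w) := by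
    rw [h1]
    simp only [h2, mul_ite, mul_zero]
    rw [← Finset.sum_filter, Finset.mul_sum]
    rw [Finset.sum_subtype (Finset.univ.filter (fun w => w ∈ R)) (p := fun w => w ∈ R) (by intro w; simp)]
    exact Finset.sum_congr rfl fun w _ => mul_comm _ _
  have hm : ∀ u v : R, χ (q ((u + v : R) : V)) = χ (q u) * χ (q v) := by
    intro u v
    rw [AddSubgroup.coe_add, q_add (q := q) hE, hχ, hχ, (hR _).1 v.2 u, mul_one]
  by_cases hall : ∀ w : R, χ (q w) = 1
  · left
    rw [h3, Finset.sum_congr rfl (fun w _ => hall w), Finset.sum_const, Finset.card_univ, nsmul_eq_mul, mul_one,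
      Nat.card_eq_fintype_card]
  · right
    push Not at hall
    rw [h3, sum_zero (fun w : R => χ (q w)) hm hall, mul_zero]

theorem card_pow {V : Type*} [AddCommGroup V] [Finite V] (hV : ∀ v : V, v + v = 0) : ∃ d : ℕ, Nat.card V = 2 ^ d := by
  haveI : Fact (Nat.Prime 2) := ⟨Nat.prime_two⟩
  have h : IsPGroup 2 (Multiplicative V) := fun v => ⟨1, by
    rw [pow_one, pow_two]
    exact congrArg Multiplicative.ofAdd (hV (Multiplicative.toAdd v))⟩
  obtain ⟨d, hd⟩ := IsPGroup.iff_card.1 h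
  exact ⟨d, hd⟩

/-- a nontrivial character killing a proper subgroup -/
theorem exists_chi {E : Type*} [AddCommGroup E] [Finite E] (I : AddSubgroup E) (hI : I ≠ ⊤) :
    ∃ χ : E → ℂ, (∀ e f, χ (e + f) = χ e * χ f) ∧ χ 0 = 1 ∧ (∃ e, χ e ≠ 1) ∧ ∀ e ∈ I, χ e = 1 := by
  obtain ⟨e, he⟩ : ∃ e, e ∉ I := by
    by_contra hcon
    push Not at hcon
    exact hI ((AddSubgroup.eq_top_iff' I).2 hcon)
  have h1 : QuotientAddGroup.mk' I e ≠ 0 := fun h => he ((QuotientAddGroup.eq_zero_iff _).1 h)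
  obtain ⟨ψ, hψ⟩ := AddChar.exists_apply_ne_zero.2 h1
  refine ⟨fun x => ψ (QuotientAddGroup.mk' I x), fun x y => ?_, ?_, ⟨e, hψ⟩, fun x hx => ?_⟩
  · show ψ (QuotientAddGroup.mk' I (x + y)) = _
    rw [map_add, AddChar.map_add_eq_mul]
  · show ψ (QuotientAddGroup.mk' I 0) = 1
    rw [map_zero, AddChar.map_zero_eq_one]
  · have h2 : QuotientAddGroup.mk' I x = 0 := (QuotientAddGroup.eq_zero_iff _).2 hx
    show ψ (QuotientAddGroup.mk' I x) = 1
    rw [h2, AddChar.map_zero_eq_one]

theorem arith {c d m : ℕ} (hm : 2 ≤ m) (h : 2 ^ d + 2 ^ c = 2 ^ (c + m) + 2 ^ m) : c = m ∧ d = m + m := by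
  rcases lt_trichotomy c m with hc | hc | hc
  · exfalso
    obtain ⟨k, rfl⟩ : ∃ k, m = c + (k + 1) := ⟨m - c - 1, by omega⟩
    have h1 : 2 ^ c ∣ 2 ^ d := by
      have h2 : 2 ^ c ∣ 2 ^ d + 2 ^ c := by
        rw [h]
        exact dvd_add (pow_dvd_pow 2 (by omega)) (pow_dvd_pow 2 (by omega))
      exact (Nat.dvd_add_left (dvd_refl _)).1 h2
    have h3 : c ≤ d := (Nat.pow_dvd_pow_iff_le_right (by norm_num)).1 h1
    obtain ⟨j, rfl⟩ := Nat.exists_eq_add_of_le h3
    have h4 : 2 ^ c * (2 ^ j + 1) = 2 ^ c * (2 * 2 ^ (c + k) + 2 * 2 ^ k) := by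
      calc 2 ^ c * (2 ^ j + 1) = 2 ^ (c + j) + 2 ^ c := by ring
        _ = 2 ^ (c + (c + (k + 1))) + 2 ^ (c + (k + 1)) := h
        _ = 2 ^ c * (2 * 2 ^ (c + k) + 2 * 2 ^ k) := by ring
    have h5 := Nat.eq_of_mul_eq_mul_left (by positivity) h4
    have h6 : 0 < 2 ^ (c + k) := by positivity
    have h7 : 0 < 2 ^ k := by positivity
    rcases j with _ | j
    · rw [pow_zero] at h5; omega
    · rw [pow_succ] at h5; omega
  · subst hc
    refine ⟨rfl, ?_⟩
    have h1 : 2 ^ d = 2 ^ (c + c) := by omega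
    exact Nat.pow_right_injective (le_refl 2) h1
  · exfalso
    obtain ⟨k, rfl⟩ : ∃ k, c = m + (k + 1) := ⟨c - m - 1, by omega⟩
    have h1 : 2 ^ m ∣ 2 ^ d := by
      have h2 : 2 ^ m ∣ 2 ^ d + 2 ^ (m + (k + 1)) := by
        rw [h]
        exact dvd_add (pow_dvd_pow 2 (by omega)) (dvd_refl _)
      exact (Nat.dvd_add_left (pow_dvd_pow 2 (by omega))).1 h2
    have h3 : m ≤ d := (Nat.pow_dvd_pow_iff_le_right (by norm_num)).1 h1
    obtain ⟨j, rfl⟩ := Nat.exists_eq_add_of_le h3
    have h4 : 2 ^ m * (2 ^ j + 2 * 2 ^ k) = 2 ^ m * (2 * (2 ^ k * 2 ^ m) + 1) := by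
      calc 2 ^ m * (2 ^ j + 2 * 2 ^ k) = 2 ^ (m + j) + 2 ^ (m + (k + 1)) := by ring
        _ = 2 ^ (m + (k + 1) + m) + 2 ^ m := h
        _ = 2 ^ m * (2 * (2 ^ k * 2 ^ m) + 1) := by ring
    have h5 := Nat.eq_of_mul_eq_mul_left (by positivity) h4
    have h7 : 0 < 2 ^ k := by positivity
    rcases j with _ | j
    · rw [pow_zero] at h5
      have h8 : 2 ^ k * 4 ≤ 2 ^ k * 2 ^ m := by
        apply Nat.mul_le_mul_left
        calc 4 = 2 ^ 2 := by norm_num
          _ ≤ 2 ^ m := Nat.pow_le_pow_right (by norm_num) hm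
      omega
    · rw [pow_succ] at h5; omega

theorem quad {V E H : Type*} [AddCommGroup V] [AddCommGroup E] [Finite V] [Finite E] [Group H]
    [DistribMulAction H V] [DistribMulAction H E] (hV : ∀ v : V, v + v = 0) (hE : ∀ e : E, e + e = 0) (q : V → E)
    (hb : ∀ u v w : V, q (u + v + w) + q u + q v + q w = q (u + v) + q (u + w) + q (v + w))
    (hq0 : ∀ v, q v = 0 ↔ v = 0) (heq : ∀ (h : H) (v : V), q (h • v) = h • q v)
    (htr : ∀ e f : E, e ≠ 0 → f ≠ 0 → ∃ h : H, h • e = f) (hcard : 4 ≤ Nat.card E) :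
    Nat.card V = 1 ∨ (Nat.card V = Nat.card E ∧ Function.Bijective q) ∨
      (Nat.card V = Nat.card E ^ 2 ∧ ∀ v ≠ 0, ∀ e, ∃ w, q (v + w) + q v + q w = e) := by
  classical
  haveI := Fintype.ofFinite V
  haveI := Fintype.ofFinite E
  have hq00 : q 0 = 0 := (hq0 0).2 rfl
  obtain ⟨e0, he0⟩ : ∃ e0 : E, e0 ≠ 0 := by
    haveI : Nontrivial E := Finite.one_lt_card_iff_nontrivial.1 (by omega)
    exact exists_ne 0
  obtain ⟨N, hN⟩ : ∃ N, N = (Finset.univ.filter (fun v => q v = e0)).card := ⟨_, rfl⟩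
  have hfib : ∀ e : E, e ≠ 0 → (Finset.univ.filter (fun v => q v = e)).card = N := by
    intro e he
    obtain ⟨h, hh⟩ := htr e0 e he0 he
    rw [hN]
    symm
    refine Finset.card_bij (fun v _ => h • v) ?_ ?_ ?_
    · intro v hv
      simp only [Finset.mem_filter, Finset.mem_univ, true_and] at hv ⊢
      rw [heq, hv, hh]
    · intro v _ w _ hvw
      exact smul_left_cancel h hvw
    · intro v hv
      simp only [Finset.mem_filter, Finset.mem_univ, true_and] at hv
      refine ⟨h⁻¹ • v, ?_, smul_inv_smul h v⟩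
      simp only [Finset.mem_filter, Finset.mem_univ, true_and]
      rw [heq, hv, ← hh, inv_smul_smul]
  have hfib0 : (Finset.univ.filter (fun v => q v = 0)).card = 1 := by
    rw [Finset.card_eq_one]
    exact ⟨0, by ext v; simp [hq0]⟩
  have hsum : ∀ f : E → ℂ, ∑ v, f (q v) = (N : ℂ) * ∑ e, f e + (1 - N) * f 0 := by
    intro f
    have h1 : ∑ v, f (q v) = ∑ e, ((Finset.univ.filter (fun v => q v = e)).card : ℂ) * f e := by
      rw [← Finset.sum_fiberwise Finset.univ q (fun v => f (q v))]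
      refine Finset.sum_congr rfl fun e _ => ?_
      rw [Finset.sum_congr rfl (g := fun _ => f e) (fun v hv => by
        rw [(Finset.mem_filter.1 hv).2]), Finset.sum_const, nsmul_eq_mul]
    have h2 : ∀ e, ((Finset.univ.filter (fun v => q v = e)).card : ℂ) * f e =
        N * f e + (if e = 0 then (1 - N) * f 0 else 0) := by
      intro e
      by_cases he : e = 0
      · subst he
        rw [hfib0, if_pos rfl]
        push_cast
        ring
      · rw [hfib e he, if_neg he, add_zero]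
    rw [h1, Finset.sum_congr rfl fun e _ => h2 e, Finset.sum_add_distrib, ← Finset.mul_sum]
    simp
  have hcV : Nat.card V + N = N * Nat.card E + 1 := by
    have h1 := hsum (fun _ => 1)
    simp only [Finset.sum_const, Finset.card_univ, nsmul_eq_mul, mul_one] at h1
    have h2 : ((Fintype.card V + N : ℕ) : ℂ) = ((N * Fintype.card E + 1 : ℕ) : ℂ) := by
      push_cast
      rw [h1]; ring
    rw [Nat.card_eq_fintype_card, Nat.card_eq_fintype_card]
    exact_mod_cast h2
  obtain ⟨d, hd⟩ := card_pow hV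
  obtain ⟨m, hm⟩ := card_pow hE
  have hm2 : 2 ≤ m := by
    by_contra hcon
    have : m = 0 ∨ m = 1 := by omega
    rcases this with h | h <;> rw [hm, h] at hcard <;> norm_num at hcard
  have hchi : ∀ χ : E → ℂ, (∀ e f, χ (e + f) = χ e * χ f) → χ 0 = 1 → (∃ e, χ e ≠ 1) → N ≠ 1 →
      ∃ R : AddSubgroup V, (∀ w, w ∈ R ↔ ∀ u, χ (bb q u w) = 1) ∧
        ((N : ℤ) - 1) ^ 2 = (Nat.card V : ℤ) * (Nat.card R : ℤ) := by
    intro χ h1 h2 h3 hN1
    obtain ⟨R, hR, h4⟩ := gauss hV hE q hb hq00 χ h1 h2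
    refine ⟨R, hR, ?_⟩
    have h5 : ∑ v, χ (q v) = 1 - N := by
      rw [hsum χ, sum_zero χ h1 h3, h2]; ring
    rw [h5] at h4
    rcases h4 with h4 | h4
    · have h6 : ((((N : ℤ) - 1) ^ 2 : ℤ) : ℂ) = (((Nat.card V : ℤ) * (Nat.card R : ℤ) : ℤ) : ℂ) := by
        push_cast
        rw [Nat.card_eq_fintype_card (α := V), ← h4]
        ring
      exact_mod_cast h6
    · exfalso
      apply hN1
      have h6 : (1 : ℂ) - N = 0 := by
        exact pow_eq_zero_iff (two_ne_zero) |>.1 h4
      have h7 : (N : ℂ) = ((1 : ℕ) : ℂ) := by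
        push_cast
        linear_combination -h6
      exact_mod_cast h7
  rcases Nat.lt_or_ge N 2 with hN2 | hN2
  · have hN01 : N = 0 ∨ N = 1 := by omega
    rcases hN01 with h0 | h0
    · left
      rw [h0] at hcV
      omega
    · right; left
      rw [h0] at hcV
      have hcc : Nat.card V = Nat.card E := by omega
      refine ⟨hcc, (Fintype.bijective_iff_injective_and_card q).2 ⟨?_, ?_⟩⟩
      · intro v w hvw
        by_cases hv : q v = 0
        · rw [(hq0 v).1 hv, (hq0 w).1 (by rw [← hvw, hv])]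
        · have h1 := hfib (q v) hv
          rw [h0, Finset.card_eq_one] at h1
          obtain ⟨x, hx⟩ := h1
          have h2 : v ∈ ({x} : Finset V) := by rw [← hx]; simp
          have h3 : w ∈ ({x} : Finset V) := by rw [← hx]; simp [hvw]
          rw [Finset.mem_singleton.1 h2, Finset.mem_singleton.1 h3]
      · rw [← Nat.card_eq_fintype_card, ← Nat.card_eq_fintype_card, hcc]
  · right; right
    have hN1 : N ≠ 1 := by omega
    -- `N - 1` is a power of two
    obtain ⟨n, rfl⟩ : ∃ n, N = n + 1 := ⟨N - 1, by omega⟩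
    have hbot : (⊥ : AddSubgroup E) ≠ ⊤ := by
      intro h
      apply he0
      have : e0 ∈ (⊤ : AddSubgroup E) := AddSubgroup.mem_top _
      rw [← h] at this
      exact this
    have hsq : ∀ R : AddSubgroup V, (((n + 1 : ℕ) : ℤ) - 1) ^ 2 = (Nat.card V : ℤ) * (Nat.card R : ℤ) →
        n ^ 2 = Nat.card V * Nat.card R := by
      intro R h
      have h1 : ((n ^ 2 : ℕ) : ℤ) = ((Nat.card V * Nat.card R : ℕ) : ℤ) := by
        push_cast
        rw [← h]
        push_cast
        ring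
      exact_mod_cast h1
    obtain ⟨c, hc⟩ : ∃ c, n = 2 ^ c := by
      obtain ⟨χ, h1, h2, h3, -⟩ := exists_chi (⊥ : AddSubgroup E) hbot
      obtain ⟨R, -, h4⟩ := hchi χ h1 h2 h3 hN1
      have h5 := hsq R h4
      have h6 : Nat.card R ∣ Nat.card V := AddSubgroup.card_addSubgroup_dvd_card R
      rw [hd] at h6
      obtain ⟨r, -, hr⟩ := (Nat.dvd_prime_pow Nat.prime_two).1 h6
      have h7 : n ∣ 2 ^ (d + r) := by
        refine ⟨n, ?_⟩
        rw [pow_add, ← hr, ← hd, ← h5, pow_two]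
      obtain ⟨c, -, hc⟩ := (Nat.dvd_prime_pow Nat.prime_two).1 h7
      exact ⟨c, hc⟩
    have h8 : 2 ^ d + 2 ^ c = 2 ^ (c + m) + 2 ^ m := by
      rw [hd, hm, hc] at hcV
      have e1 : (2 ^ c + 1) * 2 ^ m = 2 ^ (c + m) + 2 ^ m := by ring
      omega
    obtain ⟨h9, h10⟩ := arith hm2 h8
    refine ⟨by rw [hd, hm, h10]; ring, ?_⟩
    intro v hv e
    let f : V →+ E := AddMonoidHom.mk' (fun w => bb q v w) (fun w w' => by
      show bb q v (w + w') = bb q v w + bb q v w'
      rw [bb_comm, bb_add hE hb, bb_comm q w, bb_comm q w'])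
    by_cases hr : f.range = ⊤
    · have h11 : e ∈ f.range := by rw [hr]; exact AddSubgroup.mem_top _
      obtain ⟨w, hw⟩ := h11
      exact ⟨w, hw⟩
    · exfalso
      obtain ⟨χ, h1, h2, h3, h4⟩ := exists_chi f.range hr
      obtain ⟨R, hR, h5⟩ := hchi χ h1 h2 h3 hN1
      have h6 := hsq R h5
      have h7 : Nat.card R = 1 := by
        have e1 : 2 ^ d * Nat.card R = 2 ^ d * 1 := by
          rw [mul_one]
          rw [hd] at h6
          rw [← h6, hc, h10, h9]; ring
        exact Nat.eq_of_mul_eq_mul_left (by positivity) e1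
      have h11 : v ∈ R := (hR v).2 (fun u => by
        rw [bb_comm]
        exact h4 _ ⟨u, rfl⟩)
      rw [AddSubgroup.card_eq_one.1 h7] at h11
      exact hv h11

/-- version with an additive map of odd period -/
theorem fpf' {V E : Type*} [AddCommGroup V] [AddCommGroup E] [Finite V] [Finite E]
    (hV : ∀ v : V, v + v = 0) (hE : ∀ e : E, e + e = 0) (q : V → E)
    (hb : ∀ u v w : V, q (u + v + w) + q u + q v + q w = q (u + v) + q (u + w) + q (v + w))
    (hq0 : ∀ v, q v = 0 ↔ v = 0)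
    (h2 : Nat.card V = Nat.card E ^ 2) (hs : ∀ v ≠ 0, ∀ e, ∃ w, q (v + w) + q v + q w = e) (c : V →+ V)
    (hc : ∀ v, q (c v) = q v) {n : ℕ} (ho : Odd n) (hcn : ∀ v, c^[n] v = v) (v0 : V) (hv0 : v0 ≠ 0)
    (hf : c v0 = v0) : ∀ v, c v = v := by
  classical
  have hq00 : q 0 = 0 := (hq0 0).2 rfl
  have hbc : ∀ u w, bb q (c u) (c w) = bb q u w := by
    intro u w
    unfold bb
    rw [← map_add, hc, hc, hc]
  let δ : V →+ V := c + AddMonoidHom.id V
  have hδ : ∀ v, δ v = c v + v := fun v => rfl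
  have hneg : ∀ v : V, -v = v := fun v => neg_eq_of_add_eq_zero_left (hV v)
  have hker : ∀ v, v ∈ δ.ker ↔ c v = v := by
    intro v
    rw [AddMonoidHom.mem_ker, hδ, add_eq_zero_iff_eq_neg, hneg]
  have hinter : ∀ v, v ∈ δ.ker → v ∈ δ.range → v = 0 := by
    rintro v hv ⟨y, rfl⟩
    rw [hker] at hv
    have h3 : ∀ k : ℕ, c^[k] y = y + k • (δ y) := by
      intro k
      induction k with
      | zero => simp
      | succ k ih =>
        rw [Function.iterate_succ_apply', ih, map_add, map_nsmul, hv, hδ]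
        have h4 : c y = y + (c y + y) := by
          calc c y = c y + (y + y) := by rw [hV, add_zero]
            _ = y + (c y + y) := by abel
        rw [succ_nsmul]
        calc c y + k • (c y + y) = (y + (c y + y)) + k • (c y + y) := by rw [← h4]
          _ = y + (k • (c y + y) + (c y + y)) := by abel
    have h4 := h3 n
    rw [hcn] at h4
    have h5 : n • (δ y) = 0 := by
      have h6 : y + n • (δ y) = y + 0 := by rw [add_zero]; exact h4.symm
      exact add_left_cancel h6
    obtain ⟨j, hj⟩ := ho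
    rw [hj, add_nsmul, mul_nsmul', two_nsmul, hV, zero_add, one_nsmul] at h5
    exact h5
  have hperp : ∀ u ∈ δ.ker, ∀ w ∈ δ.range, bb q u w = 0 := by
    rintro u hu _ ⟨y, rfl⟩
    rw [hker] at hu
    rw [hδ, bb_comm, bb_add hE hb, bb_comm q y u, ← hbc u y, hu, bb_comm q (c y) u, hE]
  have hself : ∀ u, bb q u u = 0 := by
    intro u
    unfold bb
    rw [hV, hq00, zero_add, hE]
  let f : V → V →+ E := fun v => AddMonoidHom.mk' (fun w => bb q v w) (fun w w' => by
      show bb q v (w + w') = bb q v w + bb q v w'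
      rw [bb_comm, bb_add hE hb, bb_comm q w, bb_comm q w'])
  have hfk : ∀ v w, w ∈ (f v).ker ↔ bb q v w = 0 := fun v w => Iff.rfl
  have hEpos : 0 < Nat.card E := Nat.card_pos
  have hcard : ∀ v ≠ 0, Nat.card (f v).ker = Nat.card E := by
    intro v hv
    have h3 : (f v).range = ⊤ := by
      rw [AddSubgroup.eq_top_iff']
      intro e
      obtain ⟨w, hw⟩ := hs v hv e
      exact ⟨w, hw⟩
    have h4 := AddSubgroup.card_mul_index (f v).ker
    rw [AddSubgroup.index_ker, h3, AddSubgroup.card_top, h2, pow_two] at h4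
    exact Nat.eq_of_mul_eq_mul_right hEpos h4
  have hprod : Nat.card δ.ker * Nat.card δ.range = Nat.card E ^ 2 := by
    rw [← h2, ← AddSubgroup.card_mul_index δ.ker, AddSubgroup.index_ker]
  have hlt : ∀ (A : AddSubgroup V) (v : V), v ≠ 0 → (∀ a ∈ A, bb q v a = 0) → v ∉ A →
      Nat.card A < Nat.card E := by
    intro A v hv hA hvA
    have h3 : A ≤ (f v).ker := fun a ha => hA a ha
    rw [← hcard v hv]
    refine lt_of_le_of_ne (AddSubgroup.card_le_of_le h3) ?_
    intro h4
    have h5 : A = (f v).ker := AddSubgroup.eq_of_le_of_card_ge h3 h4.ge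
    apply hvA
    rw [h5, hfk]
    exact hself v
  by_contra hcon
  push Not at hcon
  obtain ⟨y, hy⟩ := hcon
  have hw0 : δ y ≠ 0 := by
    rw [hδ]
    intro h
    rw [add_eq_zero_iff_eq_neg, hneg] at h
    exact hy h
  have h3 : Nat.card δ.range < Nat.card E := by
    have hv0k : v0 ∈ δ.ker := (hker v0).2 hf
    exact hlt _ v0 hv0 (fun a ha => hperp v0 hv0k a ha) (fun h => hv0 (hinter v0 hv0k h))
  have h4 : Nat.card δ.ker < Nat.card E := by
    refine hlt _ (δ y) hw0 (fun a ha => ?_) (fun h => hw0 (hinter _ h ⟨y, rfl⟩))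
    rw [bb_comm]
    exact hperp a ha _ ⟨y, rfl⟩
  have h5 : Nat.card δ.ker * Nat.card δ.range < Nat.card E ^ 2 := by
    rw [pow_two]
    exact Nat.mul_lt_mul'' h4 h3
  omega

/-- version with a group acting -/
theorem fpf {V E H : Type*} [AddCommGroup V] [AddCommGroup E] [Finite V] [Finite E] [Group H]
    [DistribMulAction H V]
    (hV : ∀ v : V, v + v = 0) (hE : ∀ e : E, e + e = 0) (q : V → E)
    (hb : ∀ u v w : V, q (u + v + w) + q u + q v + q w = q (u + v) + q (u + w) + q (v + w))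
    (hq0 : ∀ v, q v = 0 ↔ v = 0)
    (h2 : Nat.card V = Nat.card E ^ 2) (hs : ∀ v ≠ 0, ∀ e, ∃ w, q (v + w) + q v + q w = e) (c : H)
    (hc : ∀ v, q (c • v) = q v) (ho : Odd (orderOf c)) (v0 : V) (hv0 : v0 ≠ 0) (hf : c • v0 = v0) :
    ∀ v : V, c • v = v := by
  have h3 : ∀ (k : ℕ) (v : V), (fun v : V => c • v)^[k] v = (c ^ k) • v := by
    intro k
    induction k with
    | zero => intro v; simp
    | succ k ih =>
      intro v
      rw [Function.iterate_succ_apply', ih, pow_succ', mul_smul]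
  exact fpf' hV hE q hb hq0 h2 hs (AddMonoidHom.mk' (fun v => c • v) (fun v w => smul_add c v w)) hc ho
    (fun v => by
      show (fun v : V => c • v)^[orderOf c] v = v
      rw [h3, pow_orderOf_eq_one, one_smul]) v0 hv0 hf

end Cfsg.Agent.H9.PyrQF
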