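import Cfsg.Agent.H53.T2
import Cfsg.Agent.H80.IndUtil
import Cfsg.Agent.JY.S4781A

/-!
# S4781, piece (N) (owner: helper9)
-/

set_option autoImplicit false
set_option linter.style.haveILetI false
set_option linter.unusedSectionVars false

namespace Cfsg.Agent.H53.D3

open scoped ComplexConjugate BigOperators commutatorElement
open Cfsg Cfsg.Agent.CharBase Cfsg.Agent.Char Cfsg.Agent.H75

universe u

variable {G : Type u} [Group G] [Finite G] {K L : Subgroup G} {p : ℕ}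

/-- `|SH : T ∩ SH| = |S : T ∩ S|` when `H ≤ T` is normal -/
theorem relIndex_sup_of_le {H S T : Subgroup G} [H.Normal] (hHT : H ≤ T) :
    T.relIndex (S ⊔ H) = T.relIndex S := by
  have h1 := Subgroup.relIndex_mul_relIndex H (T ⊓ (S ⊔ H)) (S ⊔ H) (le_inf hHT le_sup_right)
    inf_le_right
  have h2 := Subgroup.relIndex_mul_relIndex (H ⊓ S) (T ⊓ S) S (inf_le_inf_right S hHT) inf_le_right
  have h3 : T ⊓ (S ⊔ H) = (T ⊓ S) ⊔ H := by
    apply le_antisymm
    · rintro x ⟨hxT, hx⟩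
      obtain ⟨s, hs, y, hy, rfl⟩ := Subgroup.mem_sup_of_normal_right.1 hx
      refine Subgroup.mul_mem_sup ⟨?_, hs⟩ hy
      have h4 := T.mul_mem hxT (T.inv_mem (hHT hy))
      rwa [mul_inv_cancel_right] at h4
    · exact sup_le (inf_le_inf_left T le_sup_left) (le_inf hHT le_sup_right)
  have h5 : H.relIndex (T ⊓ (S ⊔ H)) = (H ⊓ S).relIndex (T ⊓ S) := by
    rw [h3, Subgroup.relIndex_sup_right, ← Subgroup.inf_relIndex_right H (T ⊓ S),
      ← Subgroup.inf_relIndex_right (H ⊓ S) (T ⊓ S)]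
    congr 1
    ext y
    simp only [Subgroup.mem_inf]
    tauto
  have h6 : H.relIndex (S ⊔ H) = (H ⊓ S).relIndex S := by
    rw [Subgroup.relIndex_sup_right, Subgroup.inf_relIndex_right]
  rw [h5, Subgroup.inf_relIndex_right, h6, ← h2, Subgroup.inf_relIndex_right T S] at h1
  have h7 : 0 < (H ⊓ S).relIndex (T ⊓ S) := Nat.pos_of_ne_zero Subgroup.index_ne_zero_of_finite
  exact Nat.eq_of_mul_eq_mul_left h7 h1

/-- retraction onto a complement -/
theorem exists_retract {L Q S : Subgroup G} [hQ : Q.Normal] (hSL : S ≤ L) (hQS : Q ⊓ S = ⊥)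
    (hL : L ≤ Q ⊔ S) : ∃ f : L →* S, ∀ s : S, f ⟨s, hSL s.2⟩ = s := by
  classical
  have hex : ∀ l : L, ∃ s : S, (l : G) * (s : G)⁻¹ ∈ Q := by
    intro l
    obtain ⟨q, hq, s, hs, h⟩ := Subgroup.mem_sup_of_normal_left.1 (hL l.2)
    exact ⟨⟨s, hs⟩, by rw [← h, mul_inv_cancel_right]; exact hq⟩
  choose f hf using hex
  have huniq : ∀ (l : L) (s : S), (l : G) * (s : G)⁻¹ ∈ Q → f l = s := by
    intro l s hs
    have h1 : ((f l : S) : G) * (s : G)⁻¹ ∈ Q ⊓ S := by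
      refine ⟨?_, S.mul_mem (f l).2 (S.inv_mem s.2)⟩
      have h2 := Q.mul_mem (Q.inv_mem (hf l)) hs
      have h3 : ((l : G) * ((f l : S) : G)⁻¹)⁻¹ * ((l : G) * (s : G)⁻¹) =
          ((f l : S) : G) * (s : G)⁻¹ := by group
      rwa [h3] at h2
    rw [hQS, Subgroup.mem_bot, mul_inv_eq_one] at h1
    exact Subtype.ext h1
  refine ⟨⟨⟨f, ?_⟩, ?_⟩, ?_⟩
  · apply huniq
    simp
  · intro a b
    apply huniq
    have h1 := Q.mul_mem (hf a) (hQ.conj_mem _ (hf b) ((f a : S) : G))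
    have h2 : (a : G) * ((f a : S) : G)⁻¹ * (((f a : S) : G) * ((b : G) * ((f b : S) : G)⁻¹) *
        ((f a : S) : G)⁻¹) = ((a * b : L) : G) * (((f a * f b : S)) : G)⁻¹ := by
      push_cast; group
    rwa [h2] at h1
  · intro s
    apply huniq
    simp

theorem deg_prime_pow {S : Type u} [Group S] [Finite S] {p : ℕ} (hp : p.Prime)
    (hS : IsPGroup p S) (β : IrrCharacter S) : ∃ m, deg β = p ^ m := by
  haveI : Fact p.Prime := ⟨hp⟩
  obtain ⟨n, hn⟩ := IsPGroup.iff_card.1 hS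
  obtain ⟨m, -, hm⟩ := (Nat.dvd_prime_pow hp).1 (hn ▸ deg_dvd β)
  exact ⟨m, hm⟩

theorem Hyp.sylow_comm (h : Hyp G K L p) (hs : Group.IsSolvable G) {Q S Y : Subgroup G}
    [Q.Normal] (hQL : Q ≤ L) (hQp : ¬ p ∣ Nat.card Q) (hLQ : ∃ k, Q.relIndex L = p ^ k)
    (hne : ⁅L, L⁆ ⊓ Q ≠ ⊥) (hSp : IsPGroup p S) (hSL : S ≤ L) (hSY : S ≤ Y)
    (hYS : ∀ y ∈ Y, ∀ s ∈ S, y * s * y⁻¹ ∈ S) (hSi : ¬ p ∣ S.relIndex L)
    (hSK : ∃ x ∈ S, x ∉ K) (h1 : (⁅L, L⁆ ⊓ Q) ⊓ Y = ⊥) (h2 : (⁅L, L⁆ ⊓ Q) ⊔ Y = ⊤) :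
    ∀ a ∈ S, ∀ b ∈ S, a * b = b * a := by
  classical
  haveI := h.frob.hL
  haveI : Fact p.Prime := ⟨h.frob.hp⟩
  have hp := h.frob.hp
  set H : Subgroup G := ⁅L, L⁆ ⊓ Q with hH
  haveI hHn : H.Normal := inferInstance
  have hHL' : H ≤ ⁅L, L⁆ := inf_le_left
  have hHL : H ≤ L := inf_le_right.trans hQL
  -- a nontrivial linear character
  obtain ⟨μ, hμ⟩ : ∃ μ : H →* ℂˣ, μ ≠ 1 := by
    haveI : Group.IsSolvable H := inferInstance
    haveI : Nontrivial H := (Subgroup.nontrivial_iff_ne_bot H).2 hne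
    have h3 : commutator H < ⊤ := Group.IsSolvable.commutator_lt_top_of_nontrivial H
    obtain ⟨x, -, hx⟩ := Set.exists_of_ssubset h3
    obtain ⟨φ, hφ⟩ := exists_hom_ne hx
    exact ⟨φ, fun h4 => hφ (by rw [h4]; rfl)⟩
  set T := inertia H (linIrr μ : H → ℂ) with hT
  have hHT : H ≤ T := le_inertia' H (linIrr μ)
  obtain ⟨⟨χ₀, hχ₀1, hχ₀, -⟩, hLT, hYT⟩ := h.deg_G H Y hHL' h1 h2 μ hμ T hT
  by_contra hcon
  -- L = Q S
  have hLQS : L ≤ Q ⊔ S := by
    obtain ⟨k, hk⟩ := hLQ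
    rw [← Subgroup.relIndex_eq_one]
    have k1 : (Q ⊔ S).relIndex L ∣ p ^ k := hk ▸ Subgroup.relIndex_dvd_of_le_left L le_sup_left
    have k2 : (Q ⊔ S).relIndex L ∣ S.relIndex L := Subgroup.relIndex_dvd_of_le_left L le_sup_right
    obtain ⟨i, -, hi⟩ := (Nat.dvd_prime_pow hp).1 k1
    rcases Nat.eq_zero_or_pos i with k3 | k3
    · rw [hi, k3, pow_zero]
    · exfalso
      apply hSi
      refine dvd_trans ?_ k2
      rw [hi]
      exact dvd_pow_self p k3.ne'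
  have hcopQS : (Nat.card Q).Coprime (Nat.card S) := by
    obtain ⟨m, hm⟩ := IsPGroup.iff_card.1 hSp
    rw [hm]
    exact (Nat.Coprime.pow_left m ((Nat.Prime.coprime_iff_not_dvd hp).2 hQp)).symm
  have hQS : Q ⊓ S = ⊥ := Subgroup.inf_eq_bot_of_coprime hcopQS
  obtain ⟨f, hf⟩ := exists_retract hSL hQS hLQS
  have hfs : Function.Surjective f := fun s => ⟨_, hf s⟩
  -- a nonlinear character of S
  obtain ⟨β, hβ⟩ : ∃ β : IrrCharacter S, deg β ≠ 1 := by
    by_contra hc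
    push Not at hc
    apply hcon
    intro a ha b hb
    exact congrArg Subtype.val (comm_of_all_linear hc ⟨a, ha⟩ ⟨b, hb⟩)
  obtain ⟨ψ, hψ⟩ : ∃ ψ : IrrCharacter L, deg ψ = deg β := by
    refine ⟨⟨(β : S → ℂ) ∘ f, isIrrCharacter_comp_surjective β.2 f hfs⟩, ?_⟩
    have h6 : ((deg (⟨(β : S → ℂ) ∘ f, isIrrCharacter_comp_surjective β.2 f hfs⟩ :
        IrrCharacter L) : ℕ) : ℂ) = ((deg β : ℕ) : ℂ) := by
      rw [← deg_spec, ← deg_spec]
      show (β : S → ℂ) (f 1) = _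
      rw [map_one]
    exact_mod_cast h6
  obtain ⟨χ, -, hχ, -⟩ := h.ext ψ (by rw [hψ]; exact hβ)
  rw [hψ] at hχ
  -- |S : S ∩ T| divides |G : T|
  have hTS : T.relIndex S ∣ T.index := by
    have hMn : (S ⊔ H).Normal := by
      constructor
      intro x hx g
      have hg : g ∈ H ⊔ Y := by rw [h2]; trivial
      obtain ⟨a, ha, y, hy, rfl⟩ := Subgroup.mem_sup_of_normal_left.1 hg
      obtain ⟨s, hs', c, hc, rfl⟩ := Subgroup.mem_sup_of_normal_right.1 hx
      have e1 : a * y * (s * c) * (a * y)⁻¹ =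
          a * ((y * s * y⁻¹) * (y * c * y⁻¹)) * a⁻¹ := by group
      rw [e1]
      have ha' : a ∈ S ⊔ H := Subgroup.mem_sup_right ha
      exact Subgroup.mul_mem _ (Subgroup.mul_mem _ ha' (Subgroup.mul_mem_sup (hYS y hy s hs')
        (hHn.conj_mem c hc y))) (Subgroup.inv_mem _ ha')
    rw [← relIndex_sup_of_le (S := S) hHT]
    exact relIndex_dvd_index' T (S ⊔ H)
  have hST_pow : ∃ j, T.relIndex S = p ^ j := by
    obtain ⟨n, hn⟩ := IsPGroup.iff_card.1 hSp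
    obtain ⟨j, -, hj⟩ := (Nat.dvd_prime_pow hp).1 (hn ▸ Subgroup.index_dvd_card (T.subgroupOf S))
    exact ⟨j, hj⟩
  -- a bound for the degree by abelian subgroups of S
  haveI := Fintype.ofFinite S
  have hbound : ∀ A : Subgroup G, A ≤ S → (∀ a ∈ A, ∀ b ∈ A, a * b = b * a) →
      deg β ≤ A.relIndex S := by
    intro A hAS hA
    exact H80.deg_le_index_of_comm β (A.subgroupOf S) fun a b =>
      Subtype.ext (Subtype.ext (hA _ a.2 _ b.2))
  have hTSab : ∀ a ∈ T ⊓ S, ∀ b ∈ T ⊓ S, a * b = b * a := fun a ha b hb =>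
    hYT a ⟨hSY ha.2, ha.1⟩ b ⟨hSY hb.2, hb.1⟩
  have hb1 : deg β ≤ T.relIndex S := by
    have := hbound (T ⊓ S) inf_le_right hTSab
    rwa [Subgroup.inf_relIndex_right] at this
  have hb2 : deg β ∣ T.relIndex S := by
    obtain ⟨m, hm⟩ := deg_prime_pow hp hSp β
    obtain ⟨j, hj⟩ := hST_pow
    rw [hm, hj] at hb1 ⊢
    exact pow_dvd_pow p ((Nat.pow_le_pow_iff_right hp.one_lt).1 hb1)
  have hdeg : deg β = T.index := by
    have h3 := h.ndad χ χ₀ (by rw [hχ]; exact hβ) (by rw [hχ, hχ₀]; exact hb2.trans hTS)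
    rw [hχ, hχ₀] at h3
    exact h3
  have hST : T.relIndex S = deg β := Nat.dvd_antisymm (hdeg ▸ hTS) hb2
  -- T ∩ S is self-centralizing in S
  have hself : ∀ s ∈ S, (∀ e ∈ T ⊓ S, s * e = e * s) → s ∈ T ⊓ S := by
    intro s hsS hse
    by_contra hns
    have k1 : ∀ a ∈ (T ⊓ S) ⊔ Subgroup.zpowers s, ∀ b ∈ (T ⊓ S) ⊔ Subgroup.zpowers s,
        a * b = b * a := by
      have k2 : (T ⊓ S) ⊔ Subgroup.zpowers s ≤
          Subgroup.centralizer (((T ⊓ S) ⊔ Subgroup.zpowers s : Subgroup G) : Set G) := by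
        have k3 : ∀ x : G, (∀ e ∈ T ⊓ S, x * e = e * x) → x * s = s * x →
            x ∈ Subgroup.centralizer (((T ⊓ S) ⊔ Subgroup.zpowers s : Subgroup G) : Set G) := by
          intro x hx hxs
          have k4 : (T ⊓ S) ⊔ Subgroup.zpowers s ≤ Subgroup.centralizer {x} := by
            refine sup_le (fun e he => ?_) ?_
            · rw [Subgroup.mem_centralizer_singleton_iff]
              exact (hx e he).symm
            · rw [Subgroup.zpowers_le, Subgroup.mem_centralizer_singleton_iff]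
              exact hxs.symm
          rw [Subgroup.mem_centralizer_iff]
          intro e he
          exact Subgroup.mem_centralizer_singleton_iff.1 (k4 he)
        refine sup_le (fun x hx => k3 x (fun e he => hTSab x hx e he) (hse x hx).symm) ?_
        rw [Subgroup.zpowers_le]
        exact k3 s hse rfl
      intro a ha b hb
      exact ((Subgroup.mem_centralizer_iff.1 (k2 hb)) a ha)
    have k5 := hbound _ (sup_le inf_le_right (by rwa [Subgroup.zpowers_le])) k1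
    have k6 := Subgroup.relIndex_mul_relIndex (T ⊓ S) ((T ⊓ S) ⊔ Subgroup.zpowers s) S le_sup_left
      (sup_le inf_le_right (by rwa [Subgroup.zpowers_le]))
    rw [Subgroup.inf_relIndex_right T S, hST] at k6
    have k7 : (T ⊓ S).relIndex ((T ⊓ S) ⊔ Subgroup.zpowers s) ≠ 1 := by
      rw [Ne, Subgroup.relIndex_eq_one]
      intro k8
      exact hns (k8 (Subgroup.mem_sup_right (Subgroup.mem_zpowers s)))
    have k8 : (T ⊓ S).relIndex ((T ⊓ S) ⊔ Subgroup.zpowers s) ≠ 0 :=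
      Subgroup.index_ne_zero_of_finite
    have k9 := deg_pos β
    have k10 : 2 ≤ (T ⊓ S).relIndex ((T ⊓ S) ⊔ Subgroup.zpowers s) := by omega
    nlinarith
  -- an element of Y ∩ T outside L of order prime to p
  obtain ⟨y1, hy1, hy1L⟩ : ∃ y ∈ Y ⊓ T, y ∉ L := by
    by_contra hc
    push Not at hc
    apply h.frob.hLtop
    rw [← hLT]
    symm
    apply le_antisymm (sup_le le_rfl _) le_sup_left
    intro t ht
    have hg : t ∈ H ⊔ Y := by rw [h2]; trivial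
    obtain ⟨a, ha, y, hy, rfl⟩ := Subgroup.mem_sup_of_normal_left.1 hg
    refine L.mul_mem (hHL ha) (hc y ⟨hy, ?_⟩)
    have h3 := T.mul_mem (T.inv_mem (hHT ha)) ht
    rwa [inv_mul_cancel_left] at h3
  obtain ⟨a, m, hm, ham⟩ : ∃ a m : ℕ, ¬ p ∣ m ∧ orderOf y1 = p ^ a * m :=
    Nat.exists_eq_pow_mul_and_not_dvd (orderOf_pos y1).ne' p hp.ne_one
  set y := y1 ^ (p ^ a) with hy
  have hyo : ¬ p ∣ orderOf y := by
    rw [hy, orderOf_pow' y1 (pow_ne_zero a hp.ne_zero), ham, Nat.gcd_eq_right (Dvd.intro _ rfl),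
      Nat.mul_div_cancel_left _ (pow_pos hp.pos a)]
    exact hm
  have hyL : y ∉ L := by
    intro hc
    apply hy1L
    rw [← QuotientGroup.eq_one_iff (N := L)]
    have h3 : ((y1 : G ⧸ L)) ^ (p ^ a) = 1 := by
      have := (QuotientGroup.eq_one_iff (N := L) y).2 hc
      rw [hy] at this
      exact this
    have h4 := orderOf_dvd_of_pow_eq_one h3
    have h5 : orderOf (y1 : G ⧸ L) ∣ L.index := orderOf_dvd_natCard _
    have h6 : Nat.Coprime (p ^ a) L.index :=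
      Nat.Coprime.pow_left a ((Nat.Prime.coprime_iff_not_dvd hp).2 h.frob.hpi)
    exact orderOf_eq_one_iff.1 (Nat.eq_one_of_dvd_coprimes h6 h4 h5)
  have hyYT : y ∈ Y ⊓ T := Subgroup.pow_mem _ hy1 _
  have hfin := JY.S4781A.cent_of_selfcent hp S (T ⊓ S) hSp inf_le_right hself y hyo
    (hYS y hyYT.1) (fun e he => hYT y hyYT e ⟨hSY he.2, he.1⟩)
  obtain ⟨x, hxS, hxK⟩ := hSK
  apply hxK
  refine h.frob.inj hyL (hSL hxS) ?_
  have e1 : x * y * x⁻¹ * y⁻¹ = 1 := by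
    rw [← hfin x hxS]; group
  rw [e1]
  exact K.one_mem

end Cfsg.Agent.H53.D3
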