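import Mathlib
import Cfsg.Agent.MaxClass.CyclicMax
import Cfsg.Agent.Solv.MinNormal
import Cfsg.Agent.Supersolvable.Hereditary

/-!
# p-groups in which all abelian normal subgroups are cyclic

Owner: helper9.
-/
set_option autoImplicit false

namespace Cfsg.Agent.H9

open Subgroup
open scoped Pointwise commutatorElement

universe u v w

section Quaternion

variable {P : Type u} [Group P]

theorem pw_add {a : P} {N : ℕ} [NeZero N] (ha : orderOf a = N) (i j : ZMod N) :
    a ^ ((i + j).val : ℤ) = a ^ ((i.val : ℤ)) * a ^ ((j.val : ℤ)) := by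
  rw [← zpow_add, MaxClass.zpow_eq_iff ha]
  have : ((i + j : ZMod N).val : ZMod N) = ((i.val : ℕ) : ZMod N) + ((j.val : ℕ) : ZMod N) := by
    rw [ZMod.natCast_zmod_val, ZMod.natCast_zmod_val, ZMod.natCast_zmod_val]
  rw [← ZMod.intCast_zmod_eq_zero_iff_dvd]
  push_cast
  rw [this]; ring

theorem pw_neg {a : P} {N : ℕ} [NeZero N] (ha : orderOf a = N) (i : ZMod N) :
    a ^ ((-i).val : ℤ) = (a ^ ((i.val : ℤ)))⁻¹ := by
  rw [← zpow_neg, MaxClass.zpow_eq_iff ha, ← ZMod.intCast_zmod_eq_zero_iff_dvd]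
  push_cast
  rw [ZMod.natCast_zmod_val, ZMod.natCast_zmod_val]; ring

theorem pw_injective {a : P} {N : ℕ} [NeZero N] (ha : orderOf a = N) (i j : ZMod N)
    (h : a ^ ((i.val : ℤ)) = a ^ ((j.val : ℤ))) : i = j := by
  rw [MaxClass.zpow_eq_iff ha, ← ZMod.intCast_zmod_eq_zero_iff_dvd] at h
  push_cast at h
  rw [ZMod.natCast_zmod_val, ZMod.natCast_zmod_val] at h
  exact sub_eq_zero.1 h

theorem conj_zpow_inv {a b : P} (h : b * a * b⁻¹ = a⁻¹) (i : ℤ) : a ^ i * b = b * a ^ (-i) := by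
  have h0 : b * a * b⁻¹ = a ^ (-1 : ℤ) := by rw [h, zpow_neg_one]
  have h1 := MaxClass.conj_zpow_of h0 (-i)
  have h2 : (-1 : ℤ) * (-i) = i := by ring
  rw [h2] at h1
  rw [← h1]; group

/-- Recognition of (generalized) quaternion groups. -/
theorem nonempty_mulEquiv_quaternionGroup [Finite P] {a b : P} (n : ℕ) (hn : 0 < n)
    (ha : orderOf a = 2 * n) (hb : b ∉ zpowers a) (hb2 : b ^ 2 = a ^ n)
    (hconj : b * a * b⁻¹ = a⁻¹) (hcard : Nat.card P = 4 * n) :
    Nonempty (P ≃* QuaternionGroup n) := by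
  have : NeZero n := ⟨hn.ne'⟩
  have : NeZero (2 * n) := ⟨by omega⟩
  let f : QuaternionGroup n → P := fun x => match x with
    | QuaternionGroup.a i => a ^ (i.val : ℤ)
    | QuaternionGroup.xa i => b * a ^ (i.val : ℤ)
  have hadd := pw_add ha
  have hneg := pw_neg ha
  have hsub : ∀ i j : ZMod (2 * n), a ^ ((i - j).val : ℤ) =
      a ^ ((i.val : ℤ)) * (a ^ ((j.val : ℤ)))⁻¹ := by
    intro i j
    rw [sub_eq_add_neg, hadd, hneg]
  have hn' : a ^ (((n : ZMod (2 * n)).val : ℕ) : ℤ) = a ^ n := by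
    rw [← zpow_natCast a n, MaxClass.zpow_eq_iff ha, ← ZMod.intCast_zmod_eq_zero_iff_dvd]
    push_cast
    rw [ZMod.natCast_zmod_val]; ring
  have hmul : ∀ x y, f (x * y) = f x * f y := by
    rintro (i | i) (j | j)
    · rw [QuaternionGroup.a_mul_a]
      exact hadd i j
    · rw [QuaternionGroup.a_mul_xa]
      show b * a ^ ((j - i).val : ℤ) = a ^ (i.val : ℤ) * (b * a ^ (j.val : ℤ))
      rw [← mul_assoc, conj_zpow_inv hconj, hsub, mul_assoc, ← zpow_neg, ← zpow_add, ← zpow_add,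
        add_comm]
    · rw [QuaternionGroup.xa_mul_a]
      show b * a ^ ((i + j).val : ℤ) = b * a ^ (i.val : ℤ) * a ^ (j.val : ℤ)
      rw [hadd, mul_assoc]
    · rw [QuaternionGroup.xa_mul_xa]
      show a ^ (((n : ZMod (2 * n)) + j - i).val : ℤ) =
        b * a ^ (i.val : ℤ) * (b * a ^ (j.val : ℤ))
      have h1 : b * a ^ (i.val : ℤ) * (b * a ^ (j.val : ℤ)) =
          b ^ 2 * a ^ (-(i.val : ℤ)) * a ^ (j.val : ℤ) := by
        calc b * a ^ (i.val : ℤ) * (b * a ^ (j.val : ℤ)) =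
            b * (a ^ (i.val : ℤ) * b) * a ^ (j.val : ℤ) := by group
          _ = _ := by rw [conj_zpow_inv hconj, pow_two]; group
      rw [h1, hsub, hadd, hn', hb2, ← zpow_natCast a n, ← zpow_neg, ← zpow_add, ← zpow_add,
        ← zpow_add, ← zpow_add]
      congr 1
      ring
  have hinj : Function.Injective f := by
    rintro (i | i) (j | j) h
    · exact congrArg _ (pw_injective ha i j h)
    · exfalso
      have h' : a ^ (i.val : ℤ) = b * a ^ (j.val : ℤ) := h
      apply hb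
      have : b = a ^ (i.val : ℤ) * (a ^ (j.val : ℤ))⁻¹ := by rw [h']; group
      rw [this]
      exact mul_mem (zpow_mem (mem_zpowers a) _) (inv_mem (zpow_mem (mem_zpowers a) _))
    · exfalso
      have h' : b * a ^ (i.val : ℤ) = a ^ (j.val : ℤ) := h
      apply hb
      have : b = a ^ (j.val : ℤ) * (a ^ (i.val : ℤ))⁻¹ := by rw [← h']; group
      rw [this]
      exact mul_mem (zpow_mem (mem_zpowers a) _) (inv_mem (zpow_mem (mem_zpowers a) _))
    · have h' : b * a ^ (i.val : ℤ) = b * a ^ (j.val : ℤ) := h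
      exact congrArg _ (pw_injective ha i j (mul_left_cancel h'))
  have hfin : Nat.card (QuaternionGroup n) = Nat.card P := by
    rw [hcard, Nat.card_eq_fintype_card, QuaternionGroup.card]
  have hbij : Function.Bijective f :=
    (Nat.bijective_iff_injective_and_card f).2 ⟨hinj, hfin⟩
  exact ⟨(MulEquiv.mk' (Equiv.ofBijective f hbij) hmul).symm⟩

/-- Recognition of dihedral groups. -/
theorem nonempty_mulEquiv_dihedralGroup [Finite P] {a b : P} (n : ℕ) (hn : 0 < n)
    (ha : orderOf a = n) (hb : b ∉ zpowers a) (hb2 : b ^ 2 = 1)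
    (hconj : b * a * b⁻¹ = a⁻¹) (hcard : Nat.card P = 2 * n) :
    Nonempty (P ≃* DihedralGroup n) := by
  have : NeZero n := ⟨hn.ne'⟩
  let f : DihedralGroup n → P := fun x => match x with
    | DihedralGroup.r i => a ^ (i.val : ℤ)
    | DihedralGroup.sr i => b * a ^ (i.val : ℤ)
  have hadd := pw_add ha
  have hneg := pw_neg ha
  have hsub : ∀ i j : ZMod n, a ^ ((i - j).val : ℤ) =
      a ^ ((i.val : ℤ)) * (a ^ ((j.val : ℤ)))⁻¹ := by
    intro i j
    rw [sub_eq_add_neg, hadd, hneg]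
  have hmul : ∀ x y, f (x * y) = f x * f y := by
    rintro (i | i) (j | j)
    · rw [DihedralGroup.r_mul_r]
      exact hadd i j
    · rw [DihedralGroup.r_mul_sr]
      show b * a ^ ((j - i).val : ℤ) = a ^ (i.val : ℤ) * (b * a ^ (j.val : ℤ))
      rw [← mul_assoc, conj_zpow_inv hconj, hsub, mul_assoc, ← zpow_neg, ← zpow_add, ← zpow_add,
        add_comm]
    · rw [DihedralGroup.sr_mul_r]
      show b * a ^ ((i + j).val : ℤ) = b * a ^ (i.val : ℤ) * a ^ (j.val : ℤ)
      rw [hadd, mul_assoc]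
    · rw [DihedralGroup.sr_mul_sr]
      show a ^ ((j - i).val : ℤ) = b * a ^ (i.val : ℤ) * (b * a ^ (j.val : ℤ))
      have h1 : b * a ^ (i.val : ℤ) * (b * a ^ (j.val : ℤ)) =
          b ^ 2 * a ^ (-(i.val : ℤ)) * a ^ (j.val : ℤ) := by
        calc b * a ^ (i.val : ℤ) * (b * a ^ (j.val : ℤ)) =
            b * (a ^ (i.val : ℤ) * b) * a ^ (j.val : ℤ) := by group
          _ = _ := by rw [conj_zpow_inv hconj, pow_two]; group
      rw [h1, hsub, hb2, one_mul, ← zpow_neg, ← zpow_add, ← zpow_add, add_comm]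
  have hinj : Function.Injective f := by
    rintro (i | i) (j | j) h
    · exact congrArg _ (pw_injective ha i j h)
    · exfalso
      have h' : a ^ (i.val : ℤ) = b * a ^ (j.val : ℤ) := h
      apply hb
      have : b = a ^ (i.val : ℤ) * (a ^ (j.val : ℤ))⁻¹ := by rw [h']; group
      rw [this]
      exact mul_mem (zpow_mem (mem_zpowers a) _) (inv_mem (zpow_mem (mem_zpowers a) _))
    · exfalso
      have h' : b * a ^ (i.val : ℤ) = a ^ (j.val : ℤ) := h
      apply hb
      have : b = a ^ (j.val : ℤ) * (a ^ (i.val : ℤ))⁻¹ := by rw [← h']; group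
      rw [this]
      exact mul_mem (zpow_mem (mem_zpowers a) _) (inv_mem (zpow_mem (mem_zpowers a) _))
    · have h' : b * a ^ (i.val : ℤ) = b * a ^ (j.val : ℤ) := h
      exact congrArg _ (pw_injective ha i j (mul_left_cancel h'))
  have hfin : Nat.card (DihedralGroup n) = Nat.card P := by
    rw [hcard, DihedralGroup.nat_card]
  have hbij : Function.Bijective f :=
    (Nat.bijective_iff_injective_and_card f).2 ⟨hinj, hfin⟩
  exact ⟨(MulEquiv.mk' (Equiv.ofBijective f hbij) hmul).symm⟩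

end Quaternion

section Main

variable {P : Type u} [Group P] [Finite P]

/-- For `k ≡ 1 (mod p ^ (m-1))` the sum `1 + k + ... + k^(p-1)` is `p * u` with `u` prime to `p`
(provided `m ≥ 2`, and `m ≥ 3` if `p = 2`). -/
theorem geom_sum_eq_mul_unit {p : ℕ} (hp : p.Prime) (m : ℕ) (hm : 2 ≤ m) (hm2 : p = 2 → 3 ≤ m)
    (k : ℤ) (hk : ((p : ℤ) ^ (m - 1)) ∣ k - 1) :
    ∃ u : ℤ, (∑ l ∈ Finset.range p, k ^ l) = p * u ∧ ¬ (p : ℤ) ∣ u := by
  obtain ⟨c, hc⟩ := hk
  rcases hp.eq_two_or_odd' with h2 | hodd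
  · subst h2
    have h3 := hm2 rfl
    obtain ⟨r, rfl⟩ : ∃ r, m = r + 3 := ⟨m - 3, by omega⟩
    have e : r + 3 - 1 = r + 2 := by omega
    rw [e] at hc
    refine ⟨1 + 2 * (2 ^ r * c), ?_, ?_⟩
    · rw [Finset.sum_range_succ, Finset.sum_range_one]
      have : k = 1 + 2 ^ (r + 2) * c := by push_cast at hc; linarith
      rw [this, pow_zero, pow_one]; push_cast; ring
    · intro h
      push_cast at h
      omega
  · -- odd case: k = 1 + p * d, d divisible by p^(m-2); work modulo p^2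
    have hpd : (p : ℤ) ∣ k - 1 := by
      rw [hc]
      exact Dvd.dvd.mul_right (dvd_pow_self _ (by omega)) _
    obtain ⟨d, hd⟩ := hpd
    have hk' : k = 1 + p * d := by linarith
    -- k^l ≡ 1 + l p d mod p^2
    have hl : ∀ l : ℕ, ((p : ℤ) * p) ∣ k ^ l - (1 + l * d * p) := by
      intro l
      have := Cfsg.Agent.MaxClass.one_add_pow_mod (q := (p : ℤ)) (N := (p : ℤ) * p) (c := d)
        (dvd_refl _) l
      rwa [mul_comm d (p : ℤ), ← hk'] at this
    have hsum : ((p : ℤ) * p) ∣ (∑ l ∈ Finset.range p, k ^ l) - p := by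
      have h1 : ((p : ℤ) * p) ∣ ∑ l ∈ Finset.range p, (k ^ l - (1 + l * d * p)) :=
        Finset.dvd_sum (fun l _ => hl l)
      rw [Finset.sum_sub_distrib, Finset.sum_add_distrib] at h1
      have h2 : ((p : ℤ) * p) ∣ ∑ l ∈ Finset.range p, ((l : ℤ) * d * p) := by
        rw [← Finset.sum_mul, ← Finset.sum_mul]
        have h3 : (p : ℤ) ∣ ∑ l ∈ Finset.range p, (l : ℤ) := by
          obtain ⟨t, ht⟩ := hodd
          have h4 := Finset.sum_range_id_mul_two p
          have h5 : (∑ l ∈ Finset.range p, l) = p * t := by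
            have : p - 1 = 2 * t := by omega
            rw [this] at h4
            have h6 : (∑ l ∈ Finset.range p, l) * 2 = (p * t) * 2 := by rw [h4]; ring
            exact Nat.eq_of_mul_eq_mul_right (by norm_num) h6
          refine ⟨t, ?_⟩
          have h6 := congrArg (Nat.cast : ℕ → ℤ) h5
          push_cast at h6
          exact h6
        obtain ⟨v, hv⟩ := h3
        exact ⟨v * d, by rw [hv]; ring⟩
      have h3 : (∑ l ∈ Finset.range p, k ^ l) - p =
          ((∑ l ∈ Finset.range p, k ^ l) - (∑ _l ∈ Finset.range p, (1 : ℤ) +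
            ∑ l ∈ Finset.range p, ((l : ℤ) * d * p))) + ∑ l ∈ Finset.range p, ((l : ℤ) * d * p) := by
        have e : ∑ _l ∈ Finset.range p, (1 : ℤ) = p := by simp
        rw [e]; ring
      rw [h3]
      exact dvd_add h1 h2
    obtain ⟨v, hv⟩ := hsum
    refine ⟨1 + p * v, by linarith, ?_⟩
    intro h
    have h1 : (p : ℤ) ∣ 1 := by
      have := dvd_sub h (dvd_mul_right (p : ℤ) v)
      rwa [add_sub_cancel_right] at this
    have h2 := Int.natCast_dvd_natCast.1 (by exact_mod_cast h1 : ((p : ℕ) : ℤ) ∣ ((1 : ℕ) : ℤ))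
    exact hp.one_lt.ne' (Nat.dvd_one.1 h2)

/-- Key lemma: a self-centralizing normal cyclic subgroup `⟨a⟩` of order `p ^ m` together with an
element `g` outside acting as `a ↦ a ^ k`, `k ≡ 1 mod p ^ (m-1)`, gives a normal elementary abelian
subgroup of order `p ^ 2`. -/
theorem exists_normal_elementary_of_conj {p : ℕ} [hpf : Fact p.Prime] (a : P)
    (hN : (zpowers a).Normal) (hC : centralizer ((zpowers a : Subgroup P) : Set P) = zpowers a)
    (m : ℕ) (ham : orderOf a = p ^ m) (hm : 2 ≤ m) (hm2 : p = 2 → 3 ≤ m) (g : P)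
    (hg : g ∉ zpowers a) (k : ℤ) (hk : g * a * g⁻¹ = a ^ k) (hk1 : ((p : ℤ) ^ (m - 1)) ∣ k - 1) :
    ∃ E : Subgroup P, E.Normal ∧ IsMulCommutative E ∧ (∀ e ∈ E, e ^ p = 1) ∧ Nat.card E = p ^ 2 := by
  have hp : p.Prime := hpf.out
  obtain ⟨r, rfl⟩ : ∃ r, m = r + 2 := ⟨m - 2, by omega⟩
  have er : r + 2 - 1 = r + 1 := by omega
  rw [er] at hk1
  have key := fun i j : ℤ => Cfsg.Agent.MaxClass.zpow_eq_iff (a := a) (N := p ^ (r + 2)) ham i j
  have hcast : ((p ^ (r + 2) : ℕ) : ℤ) = (p : ℤ) ^ (r + 2) := by push_cast; rfl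
  rw [hcast] at key
  have hpz : (p : ℤ) ≠ 0 := by exact_mod_cast hp.ne_zero
  have hAcent : ∀ x : P, x * a = a * x → x ∈ zpowers a := by
    intro x hx
    rw [← hC, Subgroup.mem_centralizer_iff]
    rintro _ ⟨i, rfl⟩
    exact ((show Commute a x from hx.symm).zpow_left i).eq
  -- k is not 1
  have hkne : ¬ ((p : ℤ) ^ (r + 2)) ∣ k - 1 := by
    intro h
    rw [← key, zpow_one, ← hk] at h
    exact hg (hAcent g (mul_inv_eq_iff_eq_mul.1 h))
  obtain ⟨u, hu, hpu⟩ := geom_sum_eq_mul_unit hp (r + 2) (by omega) hm2 k (by rw [er]; exact hk1)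
  -- g^p ∈ ⟨a⟩
  have hgp : g ^ p ∈ zpowers a := by
    apply hAcent
    have h1 := Cfsg.Agent.MaxClass.conj_pow_iter hk p
    have h2 : a ^ (k ^ p) = a := by
      have : a ^ (k ^ p) = a ^ (1 : ℤ) := by
        rw [key]
        have h3 := Commute.geom_sum₂_mul (Commute.one_right k) p
        have h4 : (∑ l ∈ Finset.range p, k ^ l) * (k - 1) = k ^ p - 1 := by
          exact geom_sum_mul k p
        rw [← h4, hu]
        obtain ⟨c, hc⟩ := hk1
        exact ⟨u * c, by rw [hc]; ring⟩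
      rw [this, zpow_one]
    rw [h2] at h1
    exact mul_inv_eq_iff_eq_mul.1 h1
  obtain ⟨j, hj⟩ := hgp
  have hj : a ^ j = g ^ p := hj
  -- p ∣ j
  have hpj : (p : ℤ) ∣ j := by
    have h1 : a ^ (k * j) = a ^ j := by
      rw [← Cfsg.Agent.MaxClass.conj_zpow_of hk j, hj]; group
    rw [key] at h1
    obtain ⟨c, hc⟩ := hk1
    have h2 : (p : ℤ) ^ (r + 1) * p ∣ (p : ℤ) ^ (r + 1) * (c * j) := by
      have e : (p : ℤ) ^ (r + 1) * (c * j) = k * j - j := by
        have : k = 1 + (p : ℤ) ^ (r + 1) * c := by linarith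
        rw [this]; ring
      rw [e, ← pow_succ]; exact h1
    have h3 : (p : ℤ) ∣ c * j := (mul_dvd_mul_iff_left (pow_ne_zero _ hpz)).1 h2
    rcases (Nat.prime_iff_prime_int.1 hp).dvd_or_dvd h3 with h4 | h4
    · exfalso
      obtain ⟨d, hd⟩ := h4
      exact hkne ⟨d, by rw [hc, hd]; ring⟩
    · exact h4
  obtain ⟨j', rfl⟩ := hpj
  -- choose i with j' + i u ≡ 0 mod p^(r+1)
  have hcop : IsCoprime ((p : ℤ) ^ (r + 1)) u := by
    apply IsCoprime.pow_left
    exact (Nat.prime_iff_prime_int.1 hp).coprime_iff_not_dvd.2 hpu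
  obtain ⟨s, t, hst⟩ := hcop
  set b : P := a ^ (-(j' * t)) * g with hb
  have hkb : b * a * b⁻¹ = a ^ k := by
    rw [hb]
    have : a ^ (-(j' * t)) * g * a * (a ^ (-(j' * t)) * g)⁻¹ =
        a ^ (-(j' * t)) * (g * a * g⁻¹) * (a ^ (-(j' * t)))⁻¹ := by group
    rw [this, hk, ← zpow_neg, ← zpow_add, ← zpow_add]
    congr 1; ring
  have hbp : b ^ p = 1 := by
    rw [hb, Cfsg.Agent.MaxClass.zpow_mul_pow hk, hu, ← hj, ← zpow_add]
    have : a ^ (-(j' * t) * (p * u) + p * j') = a ^ (0 : ℤ) := by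
      rw [key]
      refine ⟨j' * s, ?_⟩
      have e : -(j' * t) * (p * u) + p * j' - 0 = p * j' * (1 - t * u) := by ring
      rw [e]
      have : 1 - t * u = s * (p : ℤ) ^ (r + 1) := by linarith
      rw [this]; ring
    rw [this, zpow_zero]
  have hbA : b ∉ zpowers a := by
    intro h
    apply hg
    have : g = (a ^ (-(j' * t)))⁻¹ * b := by rw [hb]; group
    rw [this]
    exact mul_mem (inv_mem (zpow_mem (mem_zpowers a) _)) h
  have hb1 : b ≠ 1 := fun h => hbA (by rw [h]; exact one_mem _)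
  set z : P := a ^ ((p : ℤ) ^ (r + 1)) with hz
  have hzo : z ^ p = 1 := by
    rw [hz, ← zpow_natCast, ← zpow_mul, ← zpow_zero a, key]
    exact ⟨1, by ring⟩
  have hz1 : z ≠ 1 := by
    intro h
    rw [hz, ← zpow_zero a, key] at h
    rw [sub_zero, pow_succ (p : ℤ) (r + 1)] at h
    have h2 : (p : ℤ) ^ (r + 1) * p ∣ (p : ℤ) ^ (r + 1) * 1 := by rwa [mul_one]
    have h3 : (p : ℤ) ∣ 1 := (mul_dvd_mul_iff_left (pow_ne_zero _ hpz)).1 h2
    have h4 := Int.natCast_dvd_natCast.1 (by exact_mod_cast h3 : ((p : ℕ) : ℤ) ∣ ((1 : ℕ) : ℤ))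
    exact hp.one_lt.ne' (Nat.dvd_one.1 h4)
  have hzb : z * b = b * z := by
    have h1 : b * z * b⁻¹ = z := by
      rw [hz, Cfsg.Agent.MaxClass.conj_zpow_of hkb, key]
      obtain ⟨c, hc⟩ := hk1
      refine ⟨c * (p : ℤ) ^ r, ?_⟩
      have : k = 1 + (p : ℤ) ^ (r + 1) * c := by linarith
      rw [this]; ring
    exact (mul_inv_eq_iff_eq_mul.1 h1).symm
  -- the subgroup E
  let E : Subgroup P := zpowers z ⊔ zpowers b
  have hcomm : ∀ x ∈ E, ∀ y ∈ E, x * y = y * x := by
    have hcl : E = Subgroup.closure {z, b} := by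
      apply le_antisymm
      · refine sup_le ?_ ?_
        · rw [zpowers_le]; exact subset_closure (by simp)
        · rw [zpowers_le]; exact subset_closure (by simp)
      · rw [closure_le]
        rintro x (rfl | rfl)
        · exact (le_sup_left : zpowers z ≤ E) (mem_zpowers z)
        · exact (le_sup_right : zpowers b ≤ E) (mem_zpowers b)
    intro x hx y hy
    rw [hcl] at hx hy
    refine Subgroup.closure_induction₂ (p := fun x y _ _ => x * y = y * x) ?_ ?_ ?_ ?_ ?_ ?_ ?_ hx hy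
    · rintro x y (rfl | rfl) (rfl | rfl)
      · rfl
      · exact hzb
      · exact hzb.symm
      · rfl
    · intro x _; simp
    · intro x _; simp
    · intro x y w _ _ _ h1 h2
      rw [mul_assoc, h2, ← mul_assoc, h1, mul_assoc]
    · intro x y w _ _ _ h1 h2
      rw [← mul_assoc, h1, mul_assoc, h2, mul_assoc]
    · intro x y _ _ h
      exact ((show Commute x y from h).inv_left).eq
    · intro x y _ _ h
      exact ((show Commute x y from h).inv_right).eq
  have hEab : IsMulCommutative E := ⟨⟨fun x y => Subtype.ext (hcomm x x.2 y y.2)⟩⟩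
  have hzE : z ∈ E := (le_sup_left : zpowers z ≤ E) (mem_zpowers z)
  have hbE : b ∈ E := (le_sup_right : zpowers b ≤ E) (mem_zpowers b)
  -- every element is z^i b^j
  have hform : ∀ x ∈ E, ∃ i j : ℤ, x = z ^ i * b ^ j := by
    intro x hx
    have : E = zpowers z ⊔ zpowers b := rfl
    rw [this, ← SetLike.mem_coe, Subgroup.coe_mul_of_left_le_normalizer_right] at hx
    · obtain ⟨_, ⟨i, rfl⟩, _, ⟨j, rfl⟩, rfl⟩ := hx
      exact ⟨i, j, rfl⟩
    · rw [zpowers_le]
      refine Subgroup.centralizer_le_normalizer _ ?_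
      rw [Subgroup.mem_centralizer_iff]
      rintro _ ⟨i, rfl⟩
      exact ((show Commute b z from hzb.symm).zpow_left i).eq
  have hexp : ∀ x ∈ E, x ^ p = 1 := by
    intro x hx
    obtain ⟨i, j, rfl⟩ := hform x hx
    have hc : Commute (z ^ i) (b ^ j) := ((show Commute z b from hzb).zpow_left i).zpow_right j
    have e1 : ∀ (w : P) (i : ℤ), w ^ p = 1 → (w ^ i) ^ p = 1 := by
      intro w i hw
      rw [← zpow_natCast, ← zpow_mul, mul_comm, zpow_mul, zpow_natCast, hw, one_zpow]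
    rw [hc.mul_pow, e1 z i hzo, e1 b j hbp, one_mul]
  have hcard : Nat.card E = p ^ 2 := by
    have hdis : zpowers z ⊓ zpowers b = ⊥ := by
      rw [eq_bot_iff]
      intro x hx
      obtain ⟨hx1, hx2⟩ := Subgroup.mem_inf.1 hx
      by_contra hne
      have hne : x ≠ 1 := hne
      -- x generates ⟨b⟩
      have h1 : orderOf b = p := orderOf_eq_prime hbp hb1
      have h2 : orderOf x = p := by
        have h3 : orderOf x ∣ p := by
          rw [← h1]; exact orderOf_dvd_of_mem_zpowers hx2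
        rcases (Nat.dvd_prime hp).1 h3 with h | h
        · exact absurd (orderOf_eq_one_iff.1 h) hne
        · exact h
      have h4 : zpowers x = zpowers b := Subgroup.eq_of_le_of_card_ge (by rwa [zpowers_le])
        (by rw [Nat.card_zpowers, Nat.card_zpowers, h1, h2])
      have h5 : zpowers x ≤ zpowers z := by rwa [zpowers_le]
      apply hbA
      have h6 : zpowers z ≤ zpowers a := by
        rw [zpowers_le, hz]; exact zpow_mem (mem_zpowers a) _
      exact h6 (h5 (by rw [h4]; exact mem_zpowers b))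
    have hzc : Nat.card (zpowers z) = p := by rw [Nat.card_zpowers]; exact orderOf_eq_prime hzo hz1
    have hbc : Nat.card (zpowers b) = p := by rw [Nat.card_zpowers]; exact orderOf_eq_prime hbp hb1
    have hnle : zpowers b ≤ Subgroup.normalizer (zpowers z : Set P) := by
      rw [zpowers_le]
      refine Subgroup.centralizer_le_normalizer _ ?_
      rw [Subgroup.mem_centralizer_iff]
      rintro _ ⟨i, rfl⟩
      exact ((show Commute z b from hzb).zpow_left i).eq
    -- compute through the set product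
    have h1 : (E : Set P) = (zpowers z : Set P) * (zpowers b : Set P) := by
      have := Subgroup.coe_mul_of_right_le_normalizer_left (zpowers z) (zpowers b) hnle
      exact this
    have h2 : Function.Injective (fun x : zpowers z × zpowers b => (x.1 : P) * (x.2 : P)) := by
      apply Subgroup.mul_injective_of_disjoint
      rw [disjoint_iff]; exact hdis
    have h3 : Nat.card E = Nat.card (zpowers z × zpowers b) := by
      refine (Nat.card_congr (Equiv.ofBijective
        (fun x : zpowers z × zpowers b => (⟨(x.1 : P) * (x.2 : P),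
          mul_mem ((le_sup_left : zpowers z ≤ E) x.1.2) ((le_sup_right : zpowers b ≤ E) x.2.2)⟩ : E))
        ⟨?_, ?_⟩)).symm
      · intro x y hxy
        exact h2 (congrArg Subtype.val hxy)
      · rintro ⟨x, hx⟩
        have hx' : x ∈ (E : Set P) := hx
        rw [h1] at hx'
        obtain ⟨y, hy, w, hw, rfl⟩ := hx'
        exact ⟨(⟨y, hy⟩, ⟨w, hw⟩), rfl⟩
    rw [h3, Nat.card_prod, hzc, hbc, pow_two]
  refine ⟨E, ?_, hEab, hexp, hcard⟩
  -- normality
  refine ⟨fun x hx h => ?_⟩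
  have hA : commutator P ≤ zpowers a := by
    have := Cfsg.Agent.Supersolvable.commutator_le_centralizer_of_isCyclic (zpowers a) inferInstance
    rwa [hC] at this
  have hz' : h * z * h⁻¹ ∈ E := by
    obtain ⟨k', hk'⟩ := Cfsg.Agent.MaxClass.exists_conj_zpow hN h
    rw [hz, Cfsg.Agent.MaxClass.conj_zpow_of hk', mul_comm, zpow_mul]
    exact zpow_mem hzE _
  have hb' : h * b * h⁻¹ ∈ E := by
    have h1 : ⁅h, b⁆ ∈ zpowers a := hA (by
      rw [_root_.commutator_def]; exact Subgroup.commutator_mem_commutator (mem_top _) (mem_top _))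
    obtain ⟨q, hq⟩ := h1
    have hq : a ^ q = ⁅h, b⁆ := hq
    rw [commutatorElement_def] at hq
    have h2 : h * b * h⁻¹ = a ^ q * b := by rw [hq]; group
    have h3 : (a ^ q * b) ^ p = 1 := by
      rw [← h2, conj_pow, hbp, mul_one, mul_inv_cancel]
    rw [Cfsg.Agent.MaxClass.zpow_mul_pow hkb, hbp, mul_one, hu, ← zpow_zero a, key, sub_zero] at h3
    have h4 : (p : ℤ) * (p : ℤ) ^ (r + 1) ∣ p * (q * u) := by
      have e1 : (p : ℤ) * (p : ℤ) ^ (r + 1) = (p : ℤ) ^ (r + 2) := by ring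
      have e2 : (p : ℤ) * (q * u) = q * (p * u) := by ring
      rw [e1, e2]; exact h3
    have h5 : (p : ℤ) ^ (r + 1) ∣ q * u := (mul_dvd_mul_iff_left hpz).1 h4
    have h6 : (p : ℤ) ^ (r + 1) ∣ q := IsCoprime.dvd_of_dvd_mul_right ⟨s, t, hst⟩ h5
    obtain ⟨w, rfl⟩ := h6
    rw [h2, zpow_mul]
    exact mul_mem (zpow_mem hzE w) hbE
  obtain ⟨i, j, rfl⟩ := hform x hx
  have : h * (z ^ i * b ^ j) * h⁻¹ = (h * z * h⁻¹) ^ i * (h * b * h⁻¹) ^ j := by
    rw [conj_zpow, conj_zpow]; group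
  rw [this]
  exact mul_mem (zpow_mem hz' i) (zpow_mem hb' j)

/-- A `p`-group all of whose abelian normal subgroups are cyclic is commutative, or `p = 2` and it
has a self-centralizing cyclic subgroup of index two and order at least four. -/
theorem exists_cyclic_index_two {p : ℕ} [hpf : Fact p.Prime] (hP : IsPGroup p P)
    (hn : ∀ A : Subgroup P, A.Normal → IsMulCommutative A → IsCyclic A)
    (hna : ∃ x y : P, x * y ≠ y * x) :
    p = 2 ∧ ∃ a : P, (zpowers a).Normal ∧
      centralizer ((zpowers a : Subgroup P) : Set P) = zpowers a ∧ (zpowers a).index = 2 ∧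
      ∃ m : ℕ, 2 ≤ m ∧ orderOf a = 2 ^ m := by
  have hp : p.Prime := hpf.out
  have hnil : Group.IsNilpotent P := hP.isNilpotent
  obtain ⟨A, hA⟩ := (Set.toFinite {N : Subgroup P | N.Normal ∧ IsMulCommutative N}).exists_maximal
    ⟨⊥, normal_bot, inferInstance⟩
  have hAn : A.Normal := hA.prop.1
  have hAab : IsMulCommutative A := hA.prop.2
  have hcent : centralizer (A : Set P) = A :=
    Cfsg.Agent.Solv.centralizer_eq_of_maximal_abelian_normal A hAab
      (fun M hM1 hM2 hle => (hA.eq_of_le ⟨hM1, hM2⟩ hle).symm)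
  obtain ⟨a, ha⟩ := (Subgroup.isCyclic_iff_exists_zpowers_eq_top A).1 (hn A hAn hAab)
  subst ha
  obtain ⟨m, hm⟩ := (IsPGroup.iff_orderOf.1 hP) a
  have key := fun i j : ℤ => Cfsg.Agent.MaxClass.zpow_eq_iff (a := a) (N := p ^ m) hm i j
  have hcast : ((p ^ m : ℕ) : ℤ) = (p : ℤ) ^ m := by push_cast; rfl
  rw [hcast] at key
  have hAcent : ∀ x : P, x * a * x⁻¹ = a → x ∈ zpowers a := by
    intro x hx
    have hx' : x * a = a * x := mul_inv_eq_iff_eq_mul.1 hx
    rw [← hcent, Subgroup.mem_centralizer_iff]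
    rintro _ ⟨i, rfl⟩
    exact ((show Commute a x from hx'.symm).zpow_left i).eq
  have hk := fun g => Cfsg.Agent.MaxClass.exists_conj_zpow hAn g
  choose k hk using hk
  have hkone : ∀ g, (p : ℤ) ^ m ∣ k g - 1 → g ∈ zpowers a := by
    intro g hg
    apply hAcent
    rw [hk g, ← zpow_one a, ← zpow_mul, key, one_mul]
    exact hg
  have hkmul : ∀ g h, (p : ℤ) ^ m ∣ k (g * h) - k g * k h := by
    intro g h
    rw [← key, ← hk, ← Cfsg.Agent.MaxClass.conj_zpow_of (hk g) (k h), ← hk h]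
    group
  -- m ≥ 2
  have hne_top : ∃ g, g ∉ zpowers a := by
    by_contra hcon
    push Not at hcon
    obtain ⟨x, y, hxy⟩ := hna
    obtain ⟨i, rfl⟩ := hcon x
    obtain ⟨j, rfl⟩ := hcon y
    apply hxy
    show a ^ i * a ^ j = a ^ j * a ^ i
    rw [← zpow_add, ← zpow_add, add_comm]
  have hkcop : ∀ g, 1 ≤ m → ¬ (p : ℤ) ∣ k g := by
    intro g hm1 hdvd
    obtain ⟨c, hc⟩ := hdvd
    -- then a^(p^(m-1)) would be killed by conjugation
    have h1 : g * a ^ ((p : ℤ) ^ (m - 1)) * g⁻¹ = 1 := by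
      rw [Cfsg.Agent.MaxClass.conj_zpow_of (hk g), ← zpow_zero a, key, hc]
      refine ⟨c, ?_⟩
      have : (p : ℤ) ^ m = (p : ℤ) ^ (m - 1) * p := by rw [← pow_succ]; congr 1; omega
      rw [this]; ring
    have h2 : a ^ ((p : ℤ) ^ (m - 1)) = 1 := by
      have : a ^ ((p : ℤ) ^ (m - 1)) = g⁻¹ * (g * a ^ ((p : ℤ) ^ (m - 1)) * g⁻¹) * g := by group
      rw [this, h1]; group
    rw [← zpow_zero a, key, sub_zero] at h2
    have h3 : (p : ℤ) ^ m = (p : ℤ) ^ (m - 1) * p := by rw [← pow_succ]; congr 1; omega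
    rw [h3] at h2
    have h4 : (p : ℤ) ^ (m - 1) * p ∣ (p : ℤ) ^ (m - 1) * 1 := by rwa [mul_one]
    have hpz : (p : ℤ) ≠ 0 := by exact_mod_cast hp.ne_zero
    have h5 : (p : ℤ) ∣ 1 := (mul_dvd_mul_iff_left (pow_ne_zero _ hpz)).1 h4
    have h6 := Int.natCast_dvd_natCast.1 (by exact_mod_cast h5 : ((p : ℕ) : ℤ) ∣ ((1 : ℕ) : ℤ))
    exact hp.one_lt.ne' (Nat.dvd_one.1 h6)
  have hm2 : 2 ≤ m := by
    by_contra hlt
    obtain ⟨g, hg⟩ := hne_top
    have hm01 : m = 0 ∨ m = 1 := by omega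
    rcases hm01 with rfl | rfl
    · exact hg (hkone g (by rw [pow_zero]; exact one_dvd _))
    · -- zpowers a has order p, normal in a p-group, hence central
      have hne : zpowers a ≠ ⊥ := by
        rw [Ne, zpowers_eq_bot]
        intro h
        rw [h, orderOf_one, pow_one] at hm
        exact hp.one_lt.ne hm
      have h1 := Cfsg.Agent.Supersolvable.inf_centralizer_ne_bot (p := p) (⊤ : Subgroup P)
        (zpowers a) (hP.to_subgroup ⊤) (hP.to_subgroup _)
        (by rw [Subgroup.normalizer_eq_top_iff.2 hAn]) hne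
      have h2 : zpowers a ≤ centralizer ((⊤ : Subgroup P) : Set P) := by
        have h3 : Nat.card (zpowers a ⊓ centralizer ((⊤ : Subgroup P) : Set P) : Subgroup P) ∣ p := by
          have := Subgroup.card_dvd_of_le
            (inf_le_left : zpowers a ⊓ centralizer ((⊤ : Subgroup P) : Set P) ≤ zpowers a)
          rwa [Nat.card_zpowers, hm, pow_one] at this
        rcases (Nat.dvd_prime hp).1 h3 with h | h
        · exact absurd (Subgroup.card_eq_one.1 h) h1
        · have := Subgroup.eq_of_le_of_card_ge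
            (inf_le_left : zpowers a ⊓ centralizer ((⊤ : Subgroup P) : Set P) ≤ zpowers a)
            (by rw [h, Nat.card_zpowers, hm, pow_one])
          rw [← this]; exact inf_le_right
      apply hg
      apply hAcent
      have h4 := Subgroup.mem_centralizer_iff.1 (h2 (mem_zpowers a)) g (mem_top g)
      rw [h4, mul_inv_cancel_right]
  -- no element outside acts as 1 mod p^(m-1) (given m ≥ 3 if p = 2)
  have hno : (p = 2 → 3 ≤ m) → ∀ g, g ∉ zpowers a → ¬ (p : ℤ) ^ (m - 1) ∣ k g - 1 := by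
    intro hm3 g hg hdvd
    obtain ⟨E, hEn, hEab, hEp, hEc⟩ := exists_normal_elementary_of_conj a hAn hcent m hm hm2 hm3 g hg
      (k g) (hk g) hdvd
    have hcyc := hn E hEn hEab
    obtain ⟨e, he⟩ := (Subgroup.isCyclic_iff_exists_zpowers_eq_top E).1 hcyc
    have h1 : orderOf e = p ^ 2 := by rw [← Nat.card_zpowers, he, hEc]
    have h2 : e ^ p = 1 := hEp e (by rw [← he]; exact mem_zpowers e)
    have h3 := orderOf_dvd_of_pow_eq_one h2
    rw [h1] at h3
    have h4 := Nat.le_of_dvd hp.pos h3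
    have h5 : p * 1 < p * p := Nat.mul_lt_mul_of_pos_left hp.one_lt hp.pos
    rw [mul_one, ← pow_two] at h5
    omega
  have hmem_pow : ∀ g, ∃ s : ℕ, g ^ p ^ s ∈ zpowers a := fun g => by
    obtain ⟨s, hs⟩ := (isPGroup_iff_pow_pow_eq_one.1 hP) g
    exact ⟨s, by rw [hs]; exact one_mem _⟩
  have hkpow : ∀ g (s : ℕ), (p : ℤ) ^ m ∣ k (g ^ s) - (k g) ^ s := by
    intro g s
    rw [← key, ← hk, Cfsg.Agent.MaxClass.conj_pow_iter (hk g)]
  have hkmem : ∀ g, g ∈ zpowers a → (p : ℤ) ^ m ∣ k g - 1 := by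
    rintro _ ⟨i, rfl⟩
    rw [← key, ← hk, zpow_one]
    show a ^ i * a * (a ^ i)⁻¹ = a
    rw [← zpow_neg, ← zpow_add_one, ← zpow_add]
    have : i + 1 + -i = 1 := by ring
    rw [this, zpow_one]
  -- existence of an element outside whose p-th power is inside
  have hex : ∃ g, g ∉ zpowers a ∧ g ^ p ∈ zpowers a := by
    classical
    obtain ⟨g, hg⟩ := hne_top
    have h := hmem_pow g
    have hs0 : Nat.find h ≠ 0 := by
      intro h0
      have := Nat.find_spec h
      rw [h0, pow_zero, pow_one] at this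
      exact hg this
    obtain ⟨s, hs⟩ := Nat.exists_eq_succ_of_ne_zero hs0
    refine ⟨g ^ p ^ s, Nat.find_min h (by omega), ?_⟩
    rw [← pow_mul, ← pow_succ]
    have := Nat.find_spec h
    rwa [hs] at this
  have hp2 : p = 2 := by
    by_contra hp2
    obtain ⟨g, hg, hgp⟩ := hex
    have h1 : (p : ℤ) ^ m ∣ (k g) ^ p - 1 := by
      have h2 := hkmem _ hgp
      have h3 := hkpow g p
      have := dvd_sub h2 h3
      have e : k (g ^ p) - 1 - (k (g ^ p) - k g ^ p) = k g ^ p - 1 := by ring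
      rwa [e] at this
    obtain ⟨r, hr⟩ : ∃ r, m = r + 1 := ⟨m - 1, by omega⟩
    have h2 := Cfsg.Agent.MaxClass.pow_one_mod_odd hp2 r (by omega) (k g) (by rw [← hr]; exact h1)
    exact hno (fun h => absurd h hp2) g hg (by rw [hr]; exact h2)
  subst hp2
  refine ⟨rfl, a, hAn, hcent, ?_, m, hm2, hm⟩
  -- squares of elements outside lie inside
  have hodd : ∀ g, Odd (k g) := by
    intro g
    rw [← Int.not_even_iff_odd, even_iff_two_dvd]
    exact hkcop g (by omega)
  have hsq : ∀ g, g ^ 2 ∈ zpowers a := by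
    classical
    intro g
    by_cases hg : g ∈ zpowers a
    · exact pow_mem hg 2
    have h := hmem_pow g
    have hs0 : Nat.find h ≠ 0 := by
      intro h0
      have := Nat.find_spec h
      rw [h0, pow_zero, pow_one] at this
      exact hg this
    obtain ⟨s, hs⟩ := Nat.exists_eq_succ_of_ne_zero hs0
    have h1 : g ^ 2 ^ s ∉ zpowers a := Nat.find_min h (by omega)
    have h2 : g ^ 2 ^ (s + 1) ∈ zpowers a := by
      have := Nat.find_spec h
      rwa [hs] at this
    rcases Nat.eq_zero_or_pos s with rfl | hspos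
    · simpa using h2
    exfalso
    -- k (g^(2^s)) is a square mod 2^m so ≡ 1 mod 4 (mod 8 if m ≥ 3)
    obtain ⟨t, rfl⟩ : ∃ t, s = t + 1 := ⟨s - 1, by omega⟩
    set y := g ^ 2 ^ t with hy
    have hys : g ^ 2 ^ (t + 1) = y ^ 2 := by rw [hy, ← pow_mul, ← pow_succ]
    rw [hys] at h1
    have h3 := hkpow y 2
    obtain ⟨w, hw⟩ := hodd y
    have h4 : (8 : ℤ) ∣ (k y) ^ 2 - 1 := by
      rw [hw]
      have : (2 * w + 1) ^ 2 - 1 = 4 * (w * (w + 1)) := by ring
      rw [this]
      obtain ⟨v, hv⟩ := Int.even_mul_succ_self w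
      exact ⟨v, by rw [hv]; ring⟩
    -- m = 2 : then k(y²) ≡ 1 mod 4
    rcases hm2.eq_or_lt with h5 | h5
    · apply h1
      apply hkone
      rw [← h5] at h3 ⊢
      push_cast at h3 ⊢
      omega
    · have h6 : (2 : ℤ) ^ m ∣ (k (y ^ 2)) ^ 2 - 1 := by
        have h7 := hkmem _ h2
        have h8 : g ^ 2 ^ (t + 1 + 1) = (y ^ 2) ^ 2 := by
          rw [hy, ← pow_mul, ← pow_mul]; congr 1; ring
        rw [h8] at h7
        have h9 := hkpow (y ^ 2) 2
        have := dvd_sub h7 h9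
        push_cast at this
        have e : k ((y ^ 2) ^ 2) - 1 - (k ((y ^ 2) ^ 2) - k (y ^ 2) ^ 2) = k (y ^ 2) ^ 2 - 1 := by ring
        rwa [e] at this
      rcases Cfsg.Agent.MaxClass.sq_one_mod_two_pow m hm2 _ h6 with h7 | h7
      · exact hno (fun _ => h5) _ h1 (by push_cast; exact h7)
      · -- k(y²) ≡ -1 mod 4 and ≡ 1 mod 4
        have h8 : (4 : ℤ) ∣ k (y ^ 2) + 1 := dvd_trans (by
          have : (4 : ℤ) = 2 ^ 2 := by norm_num
          rw [this]
          exact pow_dvd_pow 2 (by omega)) h7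
        have h9 : (4 : ℤ) ∣ k (y ^ 2) - (k y) ^ 2 := by
          have h10 : (4 : ℤ) ∣ ((2 : ℕ) : ℤ) ^ m := by
            have h11 : ((2 : ℕ) : ℤ) ^ 2 ∣ ((2 : ℕ) : ℤ) ^ m := pow_dvd_pow _ hm2
            have h12 : ((2 : ℕ) : ℤ) ^ 2 = 4 := by norm_num
            rwa [h12] at h11
          exact dvd_trans h10 h3
        omega
  -- outside elements act as -1 mod 2^(m-1)
  have hminus : ∀ g, g ∉ zpowers a → (2 : ℤ) ^ (m - 1) ∣ k g + 1 := by
    intro g hg
    rcases hm2.eq_or_lt with h5 | h5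
    · rw [← h5]
      obtain ⟨w, hw⟩ := hodd g
      rw [hw]
      exact ⟨w + 1, by norm_num; ring⟩
    · have h6 : (2 : ℤ) ^ m ∣ (k g) ^ 2 - 1 := by
        have h7 := hkmem _ (hsq g)
        have h9 := hkpow g 2
        have := dvd_sub h7 h9
        push_cast at this
        have e : k (g ^ 2) - 1 - (k (g ^ 2) - k g ^ 2) = k g ^ 2 - 1 := by ring
        rwa [e] at this
      rcases Cfsg.Agent.MaxClass.sq_one_mod_two_pow m hm2 _ h6 with h7 | h7
      · exact absurd (by push_cast; exact h7) (hno (fun _ => h5) g hg)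
      · exact h7
  have hprod : ∀ g h, g ∉ zpowers a → h ∉ zpowers a → g * h ∈ zpowers a := by
    intro g h hg hh
    by_contra hgh
    rcases hm2.eq_or_lt with h5 | h5
    · -- m = 2: k g ≡ k h ≡ 3 mod 4
      have aux : ∀ x, x ∉ zpowers a → k x % 4 = 3 := by
        intro x hx
        have h1 : ¬ (4 : ℤ) ∣ k x - 1 := by
          intro h
          apply hx
          apply hkone
          rw [← h5]; push_cast; exact h
        obtain ⟨w, hw⟩ := hodd x
        omega
      have h1 := aux g hg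
      have h2 := aux h hh
      have h3 := aux _ hgh
      have h4 := hkmul g h
      rw [← h5] at h4
      push_cast at h4
      norm_num at h4
      have h6 : (k g * k h) % 4 = 1 := by rw [Int.mul_emod, h1, h2]; norm_num
      omega
    · have h1 := hminus g hg
      have h2 := hminus h hh
      have h3 := hkmul g h
      apply hno (fun _ => h5) _ hgh
      push_cast
      have h4 : (2 : ℤ) ^ (m - 1) ∣ k (g * h) - k g * k h := dvd_trans (by
        push_cast
        exact pow_dvd_pow 2 (by omega)) h3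
      obtain ⟨c, hc⟩ := h1
      obtain ⟨d, hd⟩ := h2
      obtain ⟨e, he⟩ := h4
      refine ⟨e + (2 : ℤ) ^ (m - 1) * c * d - c - d, ?_⟩
      have e1 : k g = 2 ^ (m - 1) * c - 1 := by linarith
      have e2 : k h = 2 ^ (m - 1) * d - 1 := by linarith
      rw [e1, e2] at he
      linarith [he]
  rw [Subgroup.index_eq_two_iff]
  obtain ⟨g, hg⟩ := hne_top
  refine ⟨g, fun b => ?_⟩
  by_cases hb : b ∈ zpowers a
  · right
    refine ⟨hb, fun h => hg ?_⟩
    have : g = b⁻¹ * (b * g) := by group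
    rw [this]
    exact mul_mem (inv_mem hb) h
  · left
    exact ⟨hprod b g hb hg, hb⟩

end Main

end Cfsg.Agent.H9
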